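import Cfsg.Agent.CosetCert.Fi22U62.Defs

/-! Generated: kernel checks. -/

set_option Elab.async false

namespace Cfsg.Agent.CosetCert.Fi22U62

theorem log_okAt0 : allFrom data.checkLog 0 2500 = true := by decide +kernel

theorem log_okAt2500 : allFrom data.checkLog 2500 2500 = true := by decide +kernel

theorem log_okAt5000 : allFrom data.checkLog 5000 2500 = true := by decide +kernel

theorem log_okAt7500 : allFrom data.checkLog 7500 2500 = true := by decide +kernel

theorem log_okAt10000 : allFrom data.checkLog 10000 2500 = true := by decide +kernel

theorem log_okAt12500 : allFrom data.checkLog 12500 2500 = true := by decide +kernel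

theorem log_okAt15000 : allFrom data.checkLog 15000 2500 = true := by decide +kernel

theorem log_okAt17500 : allFrom data.checkLog 17500 1525 = true := by decide +kernel

end Cfsg.Agent.CosetCert.Fi22U62
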